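import Cfsg.Agent.Lib.InvChar.SporData.HN.K7.F0

/-! The listing of orbit 7 is checked. -/

set_option autoImplicit false
set_option maxRecDepth 100000

namespace CfsgLib.InvChar.SporHN

open CfsgLib.InvChar.Coset

theorem kChecked7 : kList7.Checked ⟨1408, 2, derPerm7⟩ (pack4 0 904 829 621) where
  hroot := by decide +kernel
  elems j hj := by
    have hj : j < 640 := hj
    rcases Nat.lt_or_ge j 640 with h0 | h0
    · exact kList7.chkElems_get _ _ 640 0 kChk7_0 j (by omega) (by omega)
    omega

end CfsgLib.InvChar.SporHN
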